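import Groth.Agent.FibVanLib.Main
import Groth.Agent.LefAmpleLib.Twist
import Groth.Agent.LefAmpleLib.QuotMap
import Groth.Agent.InfNbhdLib.Scheme
import Groth.Agent.BCLib.SteinFlat

/-!
# Comparison with the formal completion along an ample divisor, below the depth of the fibres
-/

set_option autoImplicit false
set_option backward.isDefEq.respectTransparency false
set_option linter.style.haveILetI false
set_option maxHeartbeats 800000

universe u

open CategoryTheory CategoryTheory.Limits AlgebraicGeometry TensorProduct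
open Groth.Agent.CurveLib (tensR)

noncomputable section

namespace Groth.Agent.FibVanLib

variable {X : Scheme.{u}}

/-- A regular generator stays regular in all powers. -/
theorem mono_idealModι_pow_tensor [IsNoetherian X] {I : X.IdealSheafData} (hI : PicF.IsInvertible (ClSub.idealMod I))
    (F : X.Modules) (h : Mono ((DCoh.tensorBi.map (ClSub.idealModι I)).app F)) (n : ℕ) :
    Mono ((DCoh.tensorBi.map (ClSub.idealModι (I ^ (n + 1)))).app F) := by
  have hIn : PicF.IsInvertible (ClSub.idealMod (I ^ (n + 1))) :=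
    (S8914.result _).2 (LefAmpleLib.idealMod_pow_succ_aux ((S8914.result _).1 hI) n).1
  refine (PullbackMod.mono_iff_stalk _).2 fun x => ?_
  have hinj : Function.Injective fun m : F.presheaf.stalk x => ParaFLib.oneG x ⊗ₜ[X.presheaf.stalk x] m := by
    let e := (LinearEquiv.ofBijective
      (LinearMap.toSpanSingleton (X.presheaf.stalk x) _ (ParaFLib.oneG x)) (ParaFLib.bijective_oneG x))
    intro a b hab
    have := congrArg ((LinearEquiv.rTensor (F.presheaf.stalk x) e.symm) ≪≫ₗ TensorProduct.lid _ _) hab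
    have he : e.symm (ParaFLib.oneG x) = 1 :=
      e.symm_apply_eq.2 (show ParaFLib.oneG x = (1 : X.presheaf.stalk x) • ParaFLib.oneG x from (one_smul _ _).symm)
    simpa [he] using this
  have main : ∀ (J : X.IdealSheafData), PicF.IsInvertible (ClSub.idealMod J) →
      ∃ u : X.presheaf.stalk x, IntMult.stalkIdeal J x = Ideal.span {u} ∧
        (Function.Injective (PullbackMod.stalkLin ((DCoh.tensorBi.map (ClSub.idealModι J)).app F) x) ↔
          ∀ m : F.presheaf.stalk x, u • m = 0 → m = 0) := by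
    intro J hJ
    obtain ⟨v, hv⟩ := ParaFLib.exists_stalk_gen hJ x
    obtain ⟨u, hu⟩ := (ParaFLib.bijective_oneG x).2 (PullbackMod.stalkLin (ClSub.idealModι J) x v)
    simp only at hu
    refine ⟨u, ?_, ?_⟩
    · ext r
      rw [← HilbObsLib.mem_range_idealModι, Ideal.mem_span_singleton']
      constructor
      · rintro ⟨w, hw⟩
        obtain ⟨c, rfl⟩ := hv.2 w
        simp only [map_smul, ← hu, smul_smul] at hw
        exact ⟨c, (ParaFLib.bijective_oneG x).1 hw⟩
      · rintro ⟨c, rfl⟩
        exact ⟨c • v, by rw [map_smul, ← hu, smul_smul]⟩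
    · let T := DCohLib.stalkTensor x (ClSub.idealMod J) F
      have key : ∀ m : F.presheaf.stalk x,
          PullbackMod.stalkLin ((DCoh.tensorBi.map (ClSub.idealModι J)).app F) x (T (v ⊗ₜ m)) =
            DCohLib.stalkTensor x _ F (ParaFLib.oneG x ⊗ₜ (u • m)) := fun m => by
        refine (DCohLib.stalkTensor_natural_left (x := x) (ClSub.idealModι J) (v ⊗ₜ m)).trans ?_
        rw [LinearMap.rTensor_tmul, ← hu, TensorProduct.smul_tmul]
      constructor
      · intro hJi m hm
        have h0 : T (v ⊗ₜ m) = 0 := hJi (by rw [key, hm, TensorProduct.tmul_zero, map_zero, map_zero])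
        have h1 : (v ⊗ₜ[X.presheaf.stalk x] m) = 0 := T.injective (h0.trans (map_zero T).symm)
        let e := LinearEquiv.ofBijective (LinearMap.toSpanSingleton (X.presheaf.stalk x) _ v) hv
        have := congrArg ((LinearEquiv.rTensor (F.presheaf.stalk x) e.symm) ≪≫ₗ TensorProduct.lid _ _) h1
        have he : e.symm v = 1 := e.symm_apply_eq.2 (show v = (1 : X.presheaf.stalk x) • v from (one_smul _ _).symm)
        simpa [he] using this
      · intro hreg
        refine (injective_iff_map_eq_zero _).2 fun z hz => ?_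
        obtain ⟨z, rfl⟩ := T.surjective z
        have hzv : ∀ y : (ClSub.idealMod J).presheaf.stalk x ⊗[X.presheaf.stalk x] F.presheaf.stalk x,
            ∃ m, y = v ⊗ₜ[X.presheaf.stalk x] m := by
          intro y
          induction y using TensorProduct.induction_on with
          | zero => exact ⟨0, by rw [TensorProduct.tmul_zero]⟩
          | tmul a b =>
            obtain ⟨c, rfl⟩ := hv.2 a
            exact ⟨c • b, TensorProduct.smul_tmul c v b⟩
          | add a b ha hb =>
            obtain ⟨m₁, rfl⟩ := ha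
            obtain ⟨m₂, rfl⟩ := hb
            exact ⟨m₁ + m₂, (TensorProduct.tmul_add _ _ _).symm⟩
        obtain ⟨m, rfl⟩ := hzv z
        rw [key] at hz
        have := hinj ((LinearEquiv.map_eq_zero_iff _).1 hz |>.trans (TensorProduct.tmul_zero _ _).symm)
        rw [hreg m this, TensorProduct.tmul_zero, map_zero]
  obtain ⟨t, ht, htinj⟩ := main I hI
  obtain ⟨u, hu, huinj⟩ := main (I ^ (n + 1)) hIn
  refine huinj.2 fun m hm => ?_
  have hmem : t ^ (n + 1) ∈ Ideal.span ({u} : Set (X.presheaf.stalk x)) := by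
    rw [← hu, InfNbhdLib.stalkIdeal_pow, ht]
    exact Ideal.pow_mem_pow (Ideal.mem_span_singleton_self t) _
  obtain ⟨c, hc⟩ := Ideal.mem_span_singleton'.1 hmem
  have hreg := htinj.1 ((PullbackMod.mono_iff_stalk _).1 h x)
  have hpow : ∀ (j : ℕ) (m : F.presheaf.stalk x), t ^ j • m = 0 → m = 0 := fun j => by
    induction j with
    | zero => intro m hm; rwa [pow_zero, one_smul] at hm
    | succ j ih => intro m hm; exact ih m (hreg _ (by rwa [smul_smul, ← pow_succ']))
  exact hpow (n + 1) m (by rw [← hc, mul_smul, hm, smul_zero])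

/-- Fibre depth at all closed points of fibres, from the points of the total space. -/
theorem fibreDepthGE_of_asFiber {S : Scheme.{u}} (f : X ⟶ S) (F : X.Modules) (r : ℕ)
    (h : ∀ x : X, IsClosed ({f.asFiber x} : Set (f.fiber (f.base x))) →
      (r : ℕ∞) ≤ LocCoh.depth (CInt.fiberStalk f x) ((CohIII.fiberMod f F (f.base x)).presheaf.stalk (f.asFiber x))) :
    FibreDepthGE f F r := by
  intro s z hz
  obtain ⟨x, rfl⟩ : ∃ x, f.fiberι s z = x := ⟨_, rfl⟩
  have hx : f (f.fiberι s z) = s := (Set.ext_iff.1 (f.range_fiberι s) _).1 ⟨z, rfl⟩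
  revert z
  intro z hz hx
  generalize hy : f.fiberι s z = x at hx
  subst hx
  obtain rfl : z = f.asFiber x := (f.fiberι _).isEmbedding.injective (hy.trans (f.fiberι_asFiber x).symm)
  exact h x hz

/-- The structure sheaf on the fibres. -/
theorem fibreDepthGE_structureModule {S : Scheme.{u}} (f : X ⟶ S) (r : ℕ)
    (h : ∀ x : X, IsClosed ({f.asFiber x} : Set (f.fiber (f.base x))) →
      (r : ℕ∞) ≤ LocCoh.depth (CInt.fiberStalk f x) (CInt.fiberStalk f x)) :
    FibreDepthGE f (Coh.structureModule X) r := by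
  refine fibreDepthGE_of_asFiber f _ r fun x hx => ?_
  have hI : PicF.IsInvertible (CohIII.fiberMod f (Coh.structureModule X) (f.base x)) :=
    AmpleLib.isInvertible_pullback _ ParaFLib.isInvertible_structureModule
  obtain ⟨v, hv⟩ := ParaFLib.exists_stalk_gen hI (f.asFiber x)
  exact le_of_le_of_eq (h x hx) (Depth.depth_congr (LinearEquiv.ofBijective (LinearMap.toSpanSingleton _ _ v) hv))

theorem hMap_comp' {A B C : X.Modules} (a : A ⟶ B) (b : B ⟶ C) (i : ℕ) (z : Coh.HH X A i) :
    Sheaf.H.map ((SheafOfModules.toSheaf X.ringCatSheaf).map (a ≫ b)) i z =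
      Sheaf.H.map ((SheafOfModules.toSheaf X.ringCatSheaf).map b) i
        (Sheaf.H.map ((SheafOfModules.toSheaf X.ringCatSheaf).map a) i z) :=
  (congrArg (fun h => Sheaf.H.map h i z) ((SheafOfModules.toSheaf X.ringCatSheaf).map_comp a b)).trans
    (Sheaf.H.map_comp_apply _ _ z)

/-- Stable bijectivity gives comparison with an inverse limit. -/
theorem limit_compare (M : X.Modules) (A Q : ℕ → X.Modules) (ι : ∀ m, A m ⟶ M) (p : ∀ m, M ⟶ Q m)
    (w : ∀ m, ι m ≫ p m = 0) (hT : ∀ m, (ShortComplex.mk (ι m) (p m) (w m)).ShortExact)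
    (q : ∀ m, Q (m + 1) ⟶ Q m) (hq : ∀ m, p (m + 1) ≫ q m = p m)
    (r m₀ : ℕ) (hv : ∀ m, m₀ ≤ m → ∀ i, i < r → Subsingleton (Coh.HH X (A m) i)) (i : ℕ) :
    (i < r → ∀ x : Coh.HH X M i,
      (∀ m, Sheaf.H.map ((SheafOfModules.toSheaf X.ringCatSheaf).map (p m)) i x = 0) → x = 0) ∧
    (i + 1 < r → ∀ y : (∀ m, Coh.HH X (Q m) i),
      (∀ m, Sheaf.H.map ((SheafOfModules.toSheaf X.ringCatSheaf).map (q m)) i (y (m + 1)) = y m) →
      ∃ x : Coh.HH X M i, ∀ m, Sheaf.H.map ((SheafOfModules.toSheaf X.ringCatSheaf).map (p m)) i x = y m) := by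
  have hinj : ∀ m, m₀ ≤ m → i < r →
      Function.Injective (Sheaf.H.map ((SheafOfModules.toSheaf X.ringCatSheaf).map (p m)) i) := fun m hm hi =>
    LefAmpleLib.injective_H_map_g (QCohLib.toAb_shortExact (hT m)) i (hv m hm i hi)
  have hsurj : ∀ m, m₀ ≤ m → i + 1 < r →
      Function.Surjective (Sheaf.H.map ((SheafOfModules.toSheaf X.ringCatSheaf).map (p m)) i) := fun m hm hi =>
    LefAmpleLib.surjective_H_map_g (QCohLib.toAb_shortExact (hT m)) i (hv m hm (i + 1) hi)
  refine ⟨fun hi x hx => hinj m₀ le_rfl hi ((hx m₀).trans (map_zero _).symm), fun hi y hy => ?_⟩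
  obtain ⟨x, hx⟩ := hsurj m₀ le_rfl hi (y m₀)
  have hup : ∀ d, Sheaf.H.map ((SheafOfModules.toSheaf X.ringCatSheaf).map (p (m₀ + d))) i x = y (m₀ + d) := by
    intro d
    induction d with
    | zero => exact hx
    | succ d ih =>
      obtain ⟨x', hx'⟩ := hsurj (m₀ + d + 1) (by omega) hi (y (m₀ + d + 1))
      obtain rfl : x' = x := hinj (m₀ + d) (by omega) (by omega) (by
        rw [ih, ← hy (m₀ + d), ← hx', ← hMap_comp', hq])
      exact hx'
  refine ⟨x, fun m => ?_⟩
  have key : ∀ j m, m₀ ≤ m + j → Sheaf.H.map ((SheafOfModules.toSheaf X.ringCatSheaf).map (p m)) i x = y m := by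
    intro j
    induction j with
    | zero =>
      intro m h
      obtain ⟨d, rfl⟩ := Nat.exists_eq_add_of_le (by simpa using h : m₀ ≤ m)
      exact hup d
    | succ j ih => intro m h; rw [← hy m, ← ih (m + 1) (by omega), ← hMap_comp', hq]
  exact key m₀ m (Nat.le_add_left _ _)

end Groth.Agent.FibVanLib
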