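import Groth.Agent.LefAmpleLib.Vanish
import Groth.Agent.GenBCLib.Main
import Groth.Agent.DCohLib.StalkTensor
import Groth.Agent.NakaiLib.Small

/-!
# Negative twists below the depth, and openness of vanishing on the fibres
-/

set_option autoImplicit false
set_option backward.isDefEq.respectTransparency false
set_option linter.style.haveILetI false
set_option maxHeartbeats 400000

universe u

open CategoryTheory CategoryTheory.Limits AlgebraicGeometry TensorProduct RingTheory.Sequence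
open Groth.Agent.IntLib (mk mk_congr mk_tensor mk_structureModule mk_tensorPow mk_eq_mk)

noncomputable section

namespace Groth.Agent.FibVanLib

/-- A finite free factor does not lower the depth. -/
theorem le_depth_tensor_free {R : Type u} [CommRing R] [IsLocalRing R] [IsNoetherianRing R] (M P : Type u)
    [AddCommGroup M] [Module R M] [Module.Finite R M] [AddCommGroup P] [Module R P] [Module.Finite R P]
    [Module.Free R P] (d : ℕ) (h : (d : ℕ∞) ≤ LocCoh.depth R M) : (d : ℕ∞) ≤ LocCoh.depth R (M ⊗[R] P) := by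
  rcases subsingleton_or_nontrivial (M ⊗[R] P) with hMP | hMP
  · rw [AcycLib.depth_subsingleton]; exact le_top
  · haveI : Nontrivial M := by
      rcases subsingleton_or_nontrivial M with hM | hM
      · exact absurd ((TensorProduct.comm R M P).toEquiv.subsingleton_congr.2 inferInstance)
          (not_subsingleton _)
      · exact hM
    rw [LocCoh.depth, Depth.le_idealDepth_iff (AcycLib.smul_top_ne_top (R := R))] at h ⊢
    obtain ⟨rs, hlen, hmem, hreg⟩ := h
    exact ⟨rs, hlen, hmem, ((TensorProduct.comm R P M).isWeaklyRegular_congr rs).mp hreg.isWeaklyRegular_lTensor⟩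

/-- Flatness over the base survives a finite locally free factor. -/
theorem isFlatOver_tensor_flf {X S : Scheme.{u}} (f : X ⟶ S) {F E : X.Modules} (hE : FlatMod.IsFinLocFree E)
    (h : FlatMod.IsFlatOver f F) : FlatMod.IsFlatOver f (CohB1.tensorMod F E) := by
  intro x
  obtain ⟨hfree, hfin⟩ := DCohLib.free_finite_stalk_of_flf hE x
  haveI := hfree
  haveI := hfin
  letI := (f.stalkMap x).hom.toAlgebra
  letI := FlatMod.moduleStalkOver f F x
  letI := FlatMod.moduleStalkOver f (CohB1.tensorMod F E) x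
  haveI : IsScalarTower (S.presheaf.stalk (f x)) (X.presheaf.stalk x) (F.presheaf.stalk x) :=
    .of_algebraMap_smul fun _ _ => rfl
  haveI : IsScalarTower (S.presheaf.stalk (f x)) (X.presheaf.stalk x)
      ((CohB1.tensorMod F E).presheaf.stalk x) :=
    .of_algebraMap_smul fun _ _ => rfl
  haveI : Module.Flat (S.presheaf.stalk (f x)) (F.presheaf.stalk x) := h x
  let b := Module.finBasis (X.presheaf.stalk x) (E.presheaf.stalk x)
  let e : (F.presheaf.stalk x ⊗[X.presheaf.stalk x] E.presheaf.stalk x) ≃ₗ[X.presheaf.stalk x]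
      (Fin (Module.finrank (X.presheaf.stalk x) (E.presheaf.stalk x)) →₀ F.presheaf.stalk x) :=
    TensorProduct.congr (LinearEquiv.refl _ _) b.repr ≪≫ₗ TensorProduct.finsuppScalarRight _ _ _ _
  haveI : IsScalarTower (S.presheaf.stalk (f x)) (X.presheaf.stalk x)
      (F.presheaf.stalk x ⊗[X.presheaf.stalk x] E.presheaf.stalk x) := inferInstance
  haveI : Module.Flat (S.presheaf.stalk (f x))
      (Fin (Module.finrank (X.presheaf.stalk x) (E.presheaf.stalk x)) →₀ F.presheaf.stalk x) :=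
    Module.Flat.of_linearEquiv (TensorProduct.finsuppScalarLeft (S.presheaf.stalk (f x))
      (F.presheaf.stalk x) (Fin (Module.finrank (X.presheaf.stalk x) (E.presheaf.stalk x)))).symm
  haveI : Module.Flat (S.presheaf.stalk (f x))
      (F.presheaf.stalk x ⊗[X.presheaf.stalk x] E.presheaf.stalk x) :=
    Module.Flat.of_linearEquiv (e.restrictScalars (S.presheaf.stalk (f x)))
  refine Module.Flat.of_linearEquiv (M := F.presheaf.stalk x ⊗[X.presheaf.stalk x] E.presheaf.stalk x) ?_
  exact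
    { (DCohLib.stalkTensor x F E).toAddEquiv.symm with
      map_smul' := fun a z => (DCohLib.stalkTensor x F E).symm.map_smul ((f.stalkMap x).hom a) z }

/-- Below the depth at closed points, negative twists of a coherent module have no cohomology. -/
theorem eventually_subsingleton_neg_coh (k : Type u) [Field k] {X : Scheme.{u}} [X.Over (Spec (CommRingCat.of k))]
    [IsProper (X ↘ Spec (CommRingCat.of k))] {L L' : X.Modules} (hA : CohB1.IsAmple L)
    (η : Nonempty (CohB1.tensorMod L L' ≅ Coh.structureModule X)) {M : X.Modules} (hM : Coh.IsCoh M)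
    {E : X.Modules} (hE : FlatMod.IsFinLocFree E)
    {r : ℕ} (hdepth : ∀ x : X, IsClosed ({x} : Set X) → (r : ℕ∞) ≤ LocCoh.depth (X.presheaf.stalk x) (M.presheaf.stalk x)) :
    ∃ m₀ : ℕ, ∀ m, m₀ ≤ m → ∀ i, i < r →
      Subsingleton (Coh.HH X (CohB1.tensorMod M (CohB1.tensorMod E (CohB1.tensorPow L' m))) i) := by
  haveI := EulerIneqLib.isNoetherian_proper (X := X) k
  obtain ⟨d₀, hd₀, hd⟩ := S9710.result (X ↘ Spec (CommRingCat.of k)) L hA
  obtain ⟨N, j, hj, -, ⟨θ⟩⟩ := H1ZeroLib.exists_closedImmersion_of_va k (X ↘ Spec (CommRingCat.of k)) (hd d₀ le_rfl)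
  haveI := hj
  obtain ⟨η⟩ := η
  have hL' : PicF.IsInvertible L' := AmpleLib.isInvertible_of_tensor_iso (AmpleLib.comm L' L ≪≫ η)
  have hLL : mk L * mk L' = 1 := mk_congr η
  have h1 : LefAmpleLib.twc j 1 = mk L ^ d₀ := (mk_congr θ).trans (mk_tensorPow L d₀)
  have hneg : ∀ q : ℕ, LefAmpleLib.twc j (-(q : ℤ)) = mk L' ^ (d₀ * q) := fun q => by
    have hq : LefAmpleLib.twc j (q : ℤ) * mk L' ^ (d₀ * q) = 1 := by
      rw [LefAmpleLib.twc_nat, h1, ← pow_mul, ← mul_pow, hLL, one_pow]
    calc LefAmpleLib.twc j (-(q : ℤ))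
        = LefAmpleLib.twc j (-(q : ℤ)) * (LefAmpleLib.twc j (q : ℤ) * mk L' ^ (d₀ * q)) := by rw [hq, mul_one]
      _ = mk L' ^ (d₀ * q) := by
        rw [← mul_assoc, mul_comm (LefAmpleLib.twc j (-(q : ℤ))), LefAmpleLib.twc_mul_neg, one_mul]
  have hflf : ∀ s : ℕ, FlatMod.IsFinLocFree (CohB1.tensorMod E (CohB1.tensorPow L' s)) := fun s =>
    DCohLib.isFinLocFree_tensor hE (CurveLib.isFinLocFree_of_isInvertible (AmpleLib.isInvertible_tensorPow hL' s))
  let G : ℕ → X.Modules := fun s => CohB1.tensorMod M (CohB1.tensorMod E (CohB1.tensorPow L' s))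
  have hG : ∀ s, Coh.IsCoh (G s) := fun s =>
    Nakai.isCoh_tensorMod hM (CurveLib.isCoh_of_isFinLocFree (hflf s))
  have hs : ∀ s : ℕ, ∃ q₀ : ℤ, ∀ q : ℤ, q₀ ≤ q → ∀ i, i < r →
      Subsingleton (Coh.HH X (Pic13.twistOn k j (G s) (-q)) i) := fun s =>
    (ProjSerreLib.vanish_lt_iff_depth_sub j (hG s) r).2 fun x hx => by
      obtain ⟨hfree, hfin⟩ := DCohLib.free_finite_stalk_of_flf (hflf s) x
      haveI := hfree
      haveI := hfin
      haveI := hM.1
      haveI := PullbackMod.finite_stalk_of_isFT hM.2 x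
      show (r : ℕ∞) ≤ LocCoh.depth (X.presheaf.stalk x)
        ((CohB1.tensorMod M (CohB1.tensorMod E (CohB1.tensorPow L' s))).presheaf.stalk x)
      exact le_of_le_of_eq (le_depth_tensor_free _ _ r (hdepth x hx))
        (Depth.depth_congr (DCohLib.stalkTensor x M (CohB1.tensorMod E (CohB1.tensorPow L' s))))
  choose q₀ hq₀ using hs
  refine ⟨d₀ * ((Finset.range d₀).sup fun s => (q₀ s).toNat), fun m hm i hi => ?_⟩
  have hmd := Nat.div_add_mod m d₀
  have hs' : m % d₀ ∈ Finset.range d₀ := Finset.mem_range.2 (Nat.mod_lt _ hd₀)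
  have hq : (q₀ (m % d₀)).toNat ≤ m / d₀ :=
    (Finset.le_sup (f := fun s => (q₀ s).toNat) hs').trans
      ((Nat.le_div_iff_mul_le hd₀).2 (by rwa [mul_comm]))
  haveI := hq₀ (m % d₀) ((m / d₀ : ℕ) : ℤ) ((Int.self_le_toNat _).trans (Int.ofNat_le.2 hq)) i hi
  obtain ⟨e⟩ : Nonempty (Pic13.twistOn k j (G (m % d₀)) (-((m / d₀ : ℕ) : ℤ)) ≅
      CohB1.tensorMod M (CohB1.tensorMod E (CohB1.tensorPow L' m))) := by
    rw [← mk_eq_mk]
    show mk M * (mk E * mk (CohB1.tensorPow L' (m % d₀))) * LefAmpleLib.twc j (-((m / d₀ : ℕ) : ℤ)) =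
      mk M * (mk E * mk (CohB1.tensorPow L' m))
    rw [hneg, mk_tensorPow, mk_tensorPow, mul_assoc, mul_assoc, ← pow_add, Nat.add_comm, hmd]
  exact ProjCoh.subsingleton_of_iso e i

/-- The points with no cohomology in a given degree on the fibre form an open set. -/
theorem isOpen_setOf_subsingleton_fiberH {X S : Scheme.{u}} (f : X ⟶ S) [IsProper f]
    [LocallyOfFinitePresentation f] (F : X.Modules) [Coh.IsQCoh F] (hfp : CohB1.IsFP F)
    (hfl : FlatMod.IsFlatOver f F) (i : ℕ) : IsOpen {s : S | Subsingleton (CohIII.fiberH f F s i)} := by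
  refine isOpen_iff_forall_mem_open.2 fun s h => ?_
  obtain ⟨V, D, hs⟩ := GenBCLib.exists_dat_at hfp hfl s
  obtain ⟨a, ha, hg, -, hk⟩ := D.exists_vanish hs h
  exact ⟨S.basicOpen a, fun v hv => D.subsingleton_fiberH hv hg hk, (S.basicOpen a).2, ha⟩

/-- Increasing open sets along every arithmetic progression cover a compact space at some stage. -/
theorem exists_forall_of_chain {S : Type u} [TopologicalSpace S] [CompactSpace S] (U : ℕ → Set S)
    (hU : ∀ m, IsOpen (U m)) (D : ℕ) (hD : 0 < D) (m₁ : ℕ) (hmono : ∀ m, m₁ ≤ m → U m ⊆ U (m + D))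
    (hcov : ∀ s, ∃ m₀, ∀ m, m₀ ≤ m → s ∈ U m) : ∃ m₀, ∀ m, m₀ ≤ m → ∀ s, s ∈ U m := by
  have hchain : ∀ m, m₁ ≤ m → ∀ q, U m ⊆ U (m + D * q) := fun m hm q => by
    induction q with
    | zero => simp
    | succ q ih =>
      rw [Nat.mul_succ, ← Nat.add_assoc]
      exact ih.trans (hmono _ (by omega))
  have hW : ∀ s, ∃ (W : Set S) (n : ℕ), IsOpen W ∧ s ∈ W ∧ ∀ m, n ≤ m → W ⊆ U m := fun s => by
    obtain ⟨m₀, h₀⟩ := hcov s
    refine ⟨⋂ c : Fin D, U (max m₀ m₁ + c), max m₀ m₁ + D, isOpen_iInter_of_finite fun c => hU _,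
      Set.mem_iInter.2 fun c => h₀ _ (by omega), fun m hm => ?_⟩
    have h := Nat.div_add_mod (m - max m₀ m₁) D
    refine (Set.iInter_subset _ ⟨(m - max m₀ m₁) % D, Nat.mod_lt _ hD⟩).trans ?_
    refine (hchain _ (by simp; omega) ((m - max m₀ m₁) / D)).trans (subset_of_eq (congrArg U ?_))
    simp only
    omega
  choose W n hWo hWs hWn using hW
  obtain ⟨t, ht⟩ := isCompact_univ.elim_finite_subcover W hWo fun s _ => Set.mem_iUnion.2 ⟨s, hWs s⟩
  refine ⟨t.sup n, fun m hm s => ?_⟩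
  obtain ⟨z, hz⟩ := Set.mem_iUnion.1 (ht (Set.mem_univ s))
  obtain ⟨hzt, hsz⟩ := Set.mem_iUnion.1 hz
  exact hWn z m ((Finset.le_sup hzt).trans hm) hsz

end Groth.Agent.FibVanLib
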