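import Groth.Agent.FibVanLib.Formal
import Groth.Agent.CMRegLib.Family
import Groth.Agent.LefAmpleLib.Finite
import Groth.Agent.FinPartGrpdLib.Fibre

/-!
# The Lefschetz condition along an ample divisor, with fibre depth two
-/

set_option autoImplicit false
set_option backward.isDefEq.respectTransparency false
set_option linter.style.haveILetI false
set_option maxHeartbeats 800000

universe u

open CategoryTheory CategoryTheory.Limits AlgebraicGeometry TopologicalSpace
open Groth.Agent.CurveLib (tensR secOf)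
open Groth.Agent.IntLib (mk mk_congr mk_tensor mk_structureModule mk_tensorPow mk_eq_mk)

noncomputable section

namespace Groth.Agent.FibVanLib

variable {X S : Scheme.{u}} (f : X ⟶ S) [IsProper f] [IsLocallyNoetherian S] [IsAffine S]
  {I : X.IdealSheafData} {L : X.Modules}

include f in
theorem isNoetherian_over : IsNoetherian X :=
  haveI : IsLocallyNoetherian X := LocallyOfFiniteType.isLocallyNoetherian f
  haveI : CompactSpace X := QuasiCompact.compactSpace_of_compactSpace f
  { }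

/-- Powers of the ideal have no cohomology below the depth of the fibres. -/
theorem eventually_ideal_tensor (hL : ClSub.IsInverseOf L (ClSub.idealMod I)) (hA : CohB1.IsAmple L)
    {F : X.Modules} (hF : Coh.IsCoh F) (hfl : FlatMod.IsFlatOver f F) {r : ℕ} (hdepth : FibreDepthGE f F r)
    {E : X.Modules} (hE : FlatMod.IsFinLocFree E) :
    ∃ m₀ : ℕ, ∀ m, m₀ ≤ m → ∀ i, i < r →
      Subsingleton (Coh.HH X (CohB1.tensorMod (ClSub.idealMod (I ^ (m + 1))) (CohB1.tensorMod F E)) i) := by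
  haveI := isNoetherian_over f
  obtain ⟨η⟩ := id hL
  obtain ⟨m₀, hm₀⟩ := eventually_HH f hA η hF hfl hdepth hE
  refine ⟨m₀, fun m hm i hi => ?_⟩
  obtain ⟨e₀⟩ := LefAmpleLib.nonempty_idealMod_pow_iso hL m
  obtain ⟨e⟩ : Nonempty (CohB1.tensorMod F (CohB1.tensorMod E (CohB1.tensorPow (ClSub.idealMod I) (m + 1))) ≅
      CohB1.tensorMod (ClSub.idealMod (I ^ (m + 1))) (CohB1.tensorMod F E)) := by
    rw [← mk_eq_mk]
    show mk F * (mk E * mk (CohB1.tensorPow (ClSub.idealMod I) (m + 1))) =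
      mk (ClSub.idealMod (I ^ (m + 1))) * (mk F * mk E)
    rw [← mk_congr e₀]
    ac_rfl
  haveI := hm₀ (m + 1) (hm.trans m.le_succ) i hi
  exact ProjCoh.subsingleton_of_iso e i

variable (hflat : FlatMod.IsFlatOver f (Coh.structureModule X))
  (hL : ClSub.IsInverseOf L (ClSub.idealMod I)) (hA : CohB1.IsAmple L)
  (hdepth : FibreDepthGE f (Coh.structureModule X) 2)

include hflat hL hA hdepth in
theorem eventually_idealMod {B : X.Modules} (hB : FlatMod.IsFinLocFree B) :
    ∃ m₀ : ℕ, ∀ m, m₀ ≤ m → ∀ i, i < 2 →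
      Subsingleton (Coh.HH X ((tensR B).obj (ClSub.idealMod (I ^ (m + 1)))) i) := by
  obtain ⟨m₀, hm₀⟩ := eventually_ideal_tensor f hL hA (DevLib.isCoh_structureModule X) hflat hdepth hB
  refine ⟨m₀, fun m hm i hi => ?_⟩
  haveI := hm₀ m hm i hi
  exact ProjCoh.subsingleton_of_iso (AmpleLib.tIso (Iso.refl _) (AmpleLib.unitL B)) i

include f hflat hL hA hdepth in
/-- Maps out of a negative twist of a free module see only a thickening. -/
theorem eventually_bijective_comp {A B : X.Modules} (hB : FlatMod.IsFinLocFree B)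
    (e : CohB1.tensorMod A B ≅ Coh.structureModule X) (r : ℕ) :
    ∃ n₀ : ℕ, ∀ n, n₀ ≤ n → Function.Bijective
      (fun g : (tensR A).obj (FlatMod.freeMod X r) ⟶ Coh.structureModule X => g ≫ ClSub.toSubscheme (I ^ (n + 1))) := by
  obtain ⟨m₀, hm⟩ := eventually_idealMod f hflat hL hA hdepth hB
  refine ⟨m₀, fun n hn => ?_⟩
  haveI := VBLib.isEquivalence_tensR (AmpleLib.comm B A ≪≫ e)
  haveI := HilbObsLib.epi_toSubscheme (I ^ (n + 1))
  let S := ShortComplex.mk (kernel.ι (ClSub.toSubscheme (I ^ (n + 1)))) (ClSub.toSubscheme (I ^ (n + 1)))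
    (kernel.condition _)
  have hS := QCohLib.toAb_shortExact
    ((CMRegLib.shortExact_ker (ClSub.toSubscheme (I ^ (n + 1)))).map_of_exact (tensR B))
  have hv : ∀ i, i < 2 → Subsingleton (Coh.HH X ((tensR B).obj (ClSub.idealMod (I ^ (n + 1)))) i) := fun i hi =>
    hm n hn i hi
  have h1 := LefAmpleLib.bijective_unitHom_iff ((tensR B).map (ClSub.toSubscheme (I ^ (n + 1))))
    ⟨LefAmpleLib.injective_H_map_g hS 0 (hv 0 (by norm_num)), LefAmpleLib.surjective_H_map_g hS 0 (hv 1 (by norm_num))⟩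
  have h2 : Function.Bijective (fun g : FlatMod.freeMod X r ⟶ (tensR B).obj (Coh.structureModule X) =>
      g ≫ (tensR B).map (ClSub.toSubscheme (I ^ (n + 1)))) := by
    refine ⟨fun g g' h => Sigma.hom_ext _ _ fun i => h1.1 ?_, fun g => ?_⟩
    · simp only [Category.assoc]
      exact congrArg (fun t => Sigma.ι (fun _ : Fin r => Coh.structureModule X) i ≫ t) h
    · choose g' hg' using fun i => h1.2 (Sigma.ι (fun _ : Fin r => Coh.structureModule X) i ≫ g)
      exact ⟨Sigma.desc g', Sigma.hom_ext _ _ fun i => (Sigma.ι_desc_assoc _ _ _).trans (hg' i)⟩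
  let adj := (CategoryTheory.Equivalence.mk (tensR A) (tensR B) (VBLib.untwist e).symm
    (VBLib.untwist (AmpleLib.comm B A ≪≫ e))).toAdjunction
  refine (Function.Bijective.of_comp_iff' (adj.homEquiv _ _).bijective _).1 ?_
  refine (congrArg Function.Bijective (funext fun g => adj.homEquiv_naturality_right g
    (ClSub.toSubscheme (I ^ (n + 1))))).mpr ?_
  exact h2.comp (adj.homEquiv _ _).bijective

include f hA in
/-- A coherent module is a quotient of a negative twist of a free module. -/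
theorem exists_epi_tensR {M : X.Modules} (hM : Coh.IsCoh M) :
    ∃ (A B : X.Modules) (r : ℕ) (π : (tensR A).obj (FlatMod.freeMod X r) ⟶ M),
      FlatMod.IsFinLocFree B ∧ PicF.IsInvertible A ∧ Nonempty (CohB1.tensorMod A B ≅ Coh.structureModule X) ∧ Epi π := by
  haveI := isNoetherian_over f
  obtain ⟨N, hN⟩ := AmpleEmb.eventually_isGloballyGenerated hA hM
  let B := CohB1.tensorPow L N
  have hB : PicF.IsInvertible B := AmpleLib.isInvertible_tensorPow hA.1 N
  obtain ⟨A, hAi, ⟨η⟩⟩ := AmpleEmb.exists_isInverseOf hB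
  obtain ⟨b, Φ, hΦ⟩ := CMRegLib.exists_epi_free_qcoh (CMRegLib.isCoh_tensor_inv hM hB).1
    (CMRegLib.isCoh_tensor_inv hM hB).2 (hN N le_rfl)
  haveI := hΦ
  exact ⟨A, B, b, (tensR A).map Φ ≫ ((VBLib.untwist η).app M).hom, CurveLib.isFinLocFree_of_isInvertible hB, hAi,
    ⟨AmpleLib.comm A B ≪≫ η⟩, inferInstance⟩

include f hflat hL hA hdepth in
/-- The Lefschetz bijection for coherent modules on the whole scheme. -/
theorem homToFormalBijective_of_coh
    (hq : ∀ n, ClSub.toSubscheme (I ^ (n + 2)) ≫ Lef.quotMap (Lef.pow_succ_le I n) = ClSub.toSubscheme (I ^ (n + 1)))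
    {M : X.Modules} (hM : Coh.IsCoh M) : Lef.HomToFormalBijective I M := by
  haveI := isNoetherian_over f
  have hinj : ∀ {M : X.Modules}, Coh.IsCoh M → ∀ φ : M ⟶ Coh.structureModule X,
      (∀ n : ℕ, φ ≫ ClSub.toSubscheme (I ^ (n + 1)) = 0) → φ = 0 := by
    intro M hM φ h
    obtain ⟨A, B, r, π, hB, -, ⟨e⟩, hπ⟩ := exists_epi_tensR f hA hM
    obtain ⟨n₀, hn₀⟩ := eventually_bijective_comp f hflat hL hA hdepth hB e r
    haveI := hπ
    rw [← cancel_epi π, comp_zero]
    exact (hn₀ n₀ le_rfl).1 (by simp [h n₀])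
  refine ⟨fun φ ψ h => sub_eq_zero.1 (hinj hM (φ - ψ) fun n => by rw [Preadditive.sub_comp, h n, sub_self]),
    fun y hy => ?_⟩
  obtain ⟨A, B, r, π, hB, hAi, ⟨e⟩, hπ⟩ := exists_epi_tensR f hA hM
  haveI := hπ
  obtain ⟨n₀, hn₀⟩ := eventually_bijective_comp f hflat hL hA hdepth hB e r
  obtain ⟨φ₀, hφ₀⟩ := (hn₀ n₀ le_rfl).2 (π ≫ y n₀)
  have hup : ∀ d, φ₀ ≫ ClSub.toSubscheme (I ^ (n₀ + d + 1)) = π ≫ y (n₀ + d) := by
    intro d
    induction d with
    | zero => exact hφ₀
    | succ d ih =>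
      obtain ⟨φ', hφ'⟩ := (hn₀ (n₀ + (d + 1)) (Nat.le_add_right _ _)).2 (π ≫ y (n₀ + (d + 1)))
      simp only at hφ'
      have : φ' = φ₀ := (hn₀ (n₀ + d) (Nat.le_add_right _ _)).1 (by
        simp only
        rw [ih, ← hq (n₀ + d), ← Category.assoc,
          show φ' ≫ ClSub.toSubscheme (I ^ (n₀ + d + 2)) = π ≫ y (n₀ + d + 1) from hφ', Category.assoc, hy])
      rw [← this]
      exact hφ'
  have hall : ∀ n, φ₀ ≫ ClSub.toSubscheme (I ^ (n + 1)) = π ≫ y n := by
    have key : ∀ j n, n₀ ≤ n + j → φ₀ ≫ ClSub.toSubscheme (I ^ (n + 1)) = π ≫ y n := by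
      intro j
      induction j with
      | zero =>
        intro n h
        obtain ⟨d, rfl⟩ := Nat.exists_eq_add_of_le (by simpa using h : n₀ ≤ n)
        exact hup d
      | succ j ih =>
        intro n h
        rw [← hq n, ← Category.assoc, ih (n + 1) (by omega), Category.assoc, hy]
    exact fun n => key n₀ n (Nat.le_add_left _ _)
  have hE : Coh.IsCoh ((tensR A).obj (FlatMod.freeMod X r)) :=
    CMRegLib.isCoh_tensor_inv (CurveLib.isCoh_of_isFinLocFree (DCohLib.isFinLocFree_freeMod r)) hAi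
  have hK : kernel.ι π ≫ φ₀ = 0 := hinj (QCohLib.isCoh_kernel_cokernel π hE hM).1 _ fun n => by
    rw [Category.assoc, hall n, kernel.condition_assoc, zero_comp]
  refine ⟨Abelian.epiDesc π φ₀ hK, fun n => ?_⟩
  rw [← cancel_epi π, ← Category.assoc, Abelian.comp_epiDesc, hall n]

/-- Outside a neighbourhood of the divisor, every point is closed in its fibre. -/
theorem isClosed_asFiber_of_notMem (hL : ClSub.IsInverseOf L (ClSub.idealMod I)) (hA : CohB1.IsAmple L)
    (U : X.Opens) (hU : (I.support : Set X) ⊆ (U : Set X)) {x : X} (hx : x ∉ U) :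
    IsClosed ({f.asFiber x} : Set (f.fiber (f x))) := by
  obtain ⟨s, hs⟩ := LefAmpleLib.exists_genLocus_ge_compl hL hA
  have hV := AmpleLib.isAffineOpen_genLocus_of_universallyClosed f hA s
  let V := CohB1.genLocus L s
  let J := Scheme.IdealSheafData.vanishingIdeal ⟨(U : Set X)ᶜ, U.2.isClosed_compl⟩
  have hJ : Set.range J.subschemeι = (U : Set X)ᶜ := by
    rw [Scheme.IdealSheafData.range_subschemeι]
    simp [J]
  have hsub : Set.range J.subschemeι ⊆ Set.range V.ι := by
    rw [Scheme.Opens.range_ι, hJ]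
    exact fun z hz => hs fun hzI => hz (hU hzI)
  let g := IsOpenImmersion.lift V.ι J.subschemeι hsub
  have hg : g ≫ V.ι = J.subschemeι := IsOpenImmersion.lift_fac _ _ _
  haveI : IsClosedImmersion (g ≫ V.ι) := hg ▸ inferInstance
  haveI : IsClosedImmersion g := IsClosedImmersion.of_comp g V.ι
  haveI : IsAffine V.toScheme := hV
  haveI : IsAffine J.subscheme := isAffine_of_isAffineHom g
  haveI : IsFinite (J.subschemeι ≫ f) := IsFinite.iff_isProper_and_isAffineHom.2 ⟨inferInstance, inferInstance⟩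
  let φ := J.subschemeι ≫ f
  refine closure_subset_iff_isClosed.1 fun w hw => ?_
  have hspec : f.asFiber x ⤳ w := specializes_iff_mem_closure.2 hw
  have hs' : x ⤳ f.fiberι (f x) w := by
    have := hspec.map (f.fiberι (f x)).continuous
    rwa [f.fiberι_asFiber] at this
  obtain ⟨z, hz⟩ : x ∈ Set.range J.subschemeι := hJ ▸ hx
  obtain ⟨z', hz'⟩ : f.fiberι (f x) w ∈ Set.range J.subschemeι := by
    rw [hJ]
    exact hs'.mem_closed U.2.isClosed_compl hx
  have hfw : f (f.fiberι (f x) w) = f x := (Set.ext_iff.1 (f.range_fiberι (f x)) _).1 ⟨w, rfl⟩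
  have hφ : φ z = f x := congrArg f hz
  have hφ' : φ z' = f x := (congrArg f hz').trans hfw
  obtain ⟨v, hv⟩ := (Set.ext_iff.1 (φ.range_fiberι (f x)) z).2 hφ
  obtain ⟨v', hv'⟩ := (Set.ext_iff.1 (φ.range_fiberι (f x)) z').2 hφ'
  obtain ⟨-, hd⟩ := FinPartGrpdLib.discreteTopology_fiber φ (f x) (φ.finite_preimage_singleton _)
  have hsz : z ⤳ z' := J.subschemeι.isClosedEmbedding.isInducing.specializes_iff.1 (hz ▸ hz' ▸ hs')
  have hsv : v ⤳ v' := (φ.fiberι (f x)).isEmbedding.isInducing.specializes_iff.1 (hv ▸ hv' ▸ hsz)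
  have hzz : z = z' := by rw [← hv, ← hv', hsv.eq]
  refine Set.mem_singleton_iff.2 ((f.fiberι (f x)).isEmbedding.injective ?_)
  rw [f.fiberι_asFiber, ← hz', ← hzz, hz]

end Groth.Agent.FibVanLib
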