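import Groth.Agent.FibVanLib.Seq
import Groth.Agent.RpushLib.Main
import Groth.Agent.S2385
import Groth.Agent.EulerIneqLib.Basic

/-!
# Uniform vanishing of negative twists below the depth of the fibres
-/

set_option autoImplicit false
set_option backward.isDefEq.respectTransparency false
set_option linter.style.haveILetI false
set_option maxHeartbeats 1200000

universe u

open CategoryTheory CategoryTheory.Limits AlgebraicGeometry TopologicalSpace
open Groth.Agent.IntLib (mk mk_congr mk_tensor mk_structureModule mk_tensorPow mk_eq_mk)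
open Groth.Agent.StalkHomLib (hF)

noncomputable section

namespace Groth.Agent.FibVanLib

variable {X S : Scheme.{u}} (f : X ⟶ S) [IsProper f] [IsLocallyNoetherian S] [IsAffine S]

/-- Closed points of every fibre have depth at least `r`. -/
def FibreDepthGE (F : X.Modules) (r : ℕ) : Prop :=
  ∀ (s : S) (z : f.fiber s), IsClosed ({z} : Set (f.fiber s)) →
    (r : ℕ∞) ≤ LocCoh.depth ((f.fiber s).presheaf.stalk z) ((CohIII.fiberMod f F s).presheaf.stalk z)

local instance hasHFM {Y : Scheme.{u}} (M : Y.Modules) : ModSite.HasSheafHom (O := Y.sheaf) M :=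
  ModTensor.hasSheafHom (O := Y.sheaf) M

/-- No cohomology when there is none on any fibre. -/
theorem subsingleton_HH_of_fibres {G : X.Modules} (hG : Coh.IsCoh G) (hGfl : FlatMod.IsFlatOver f G) (i : ℕ)
    (h : ∀ s : S, Subsingleton (CohIII.fiberH f G s i)) : Subsingleton (Coh.HH X G i) := by
  haveI : IsLocallyNoetherian X := LocallyOfFiniteType.isLocallyNoetherian f
  haveI := hG.1
  haveI : HasInjectiveResolutions X.Modules := inferInstance
  have hz : IsZero ((Coh.Rpush f i).obj G) :=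
    GenBCLib.isZero_of_nhds _ fun s => S2385.result f G hG hGfl s i (h s)
  have h1 : IsZero (((Coh.Rpush f i).obj G).presheaf.obj (Opposite.op (⊤ : S.Opens))) :=
    ((Scheme.Modules.toPresheaf S).map_isZero hz).obj _
  haveI hs : Subsingleton Γ((Coh.Rpush f i).obj G, ⊤) := AddCommGrpCat.subsingleton_of_isZero h1
  cases i with
  | zero =>
    have h2 : IsZero ((Scheme.Modules.pushforward f).obj G) :=
      hz.of_iso (((Scheme.Modules.pushforward f).rightDerivedZeroIsoSelf).app G).symm
    have h3 : IsZero (((Scheme.Modules.pushforward f).obj G).presheaf.obj (Opposite.op (⊤ : S.Opens))) :=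
      ((Scheme.Modules.toPresheaf S).map_isZero h2).obj _
    haveI : Subsingleton Γ(G, ⊤) := AddCommGrpCat.subsingleton_of_isZero h3
    exact (RpushLib.h0Γ G).symm.toEquiv.subsingleton
  | succ p =>
    obtain ⟨e⟩ := RpushLib.nonempty_sections (M := G) f p (isAffineOpen_top S)
    exact CohBase.subsingleton_HH G (p + 1) e.symm.toEquiv.subsingleton

variable {L L' : X.Modules} (hA : CohB1.IsAmple L) (η : CohB1.tensorMod L L' ≅ Coh.structureModule X)
  {F : X.Modules} (hF' : Coh.IsCoh F) (hfl : FlatMod.IsFlatOver f F) {r : ℕ} (hdepth : FibreDepthGE f F r)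

omit [IsProper f] in
theorem isAffineHom_fiberι [IsAffine S] (s : S) : IsAffineHom (f.fiberι s) :=
  MorphismProperty.of_isPullback (P := @IsAffineHom)
    (IsPullback.of_hasPullback f (S.fromSpecResidueField s)).flip inferInstance

include hA η hF' hdepth in
theorem exists_forall_fibre {E : X.Modules} (hE : FlatMod.IsFinLocFree E) (s : S) :
    ∃ m₀ : ℕ, ∀ m, m₀ ≤ m → ∀ i, i < r →
      Subsingleton (CohIII.fiberH f (CohB1.tensorMod F (CohB1.tensorMod E (CohB1.tensorPow L' m))) s i) := by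
  let k := S.residueField s
  letI : (f.fiber s).Over (Spec (CommRingCat.of k)) := ⟨f.fiberToSpecResidueField s⟩
  haveI : IsProper (f.fiber s ↘ Spec (CommRingCat.of k)) :=
    MorphismProperty.of_isPullback (IsPullback.of_hasPullback f (S.fromSpecResidueField s)) inferInstance
  haveI := isAffineHom_fiberι f s
  let ι := f.fiberι s
  have hq : Nonempty (CohB1.tensorMod ((Scheme.Modules.pullback ι).obj L) ((Scheme.Modules.pullback ι).obj L') ≅
      Coh.structureModule (f.fiber s)) :=
    ⟨(AmpleLib.pullTensor ι L L').symm ≪≫ (Scheme.Modules.pullback ι).mapIso η ≪≫ AmpleLib.pullO ι⟩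
  obtain ⟨m₀, h⟩ := eventually_subsingleton_neg_coh k (AmpleLib.isAmple_pullback ι hA) hq
    (PullbackMod.isCoh_pullback ι F hF') (PullbackMod.isFinLocFree_pullback ι E hE) (hdepth s)
  refine ⟨m₀, fun m hm i hi => ?_⟩
  haveI := h m hm i hi
  exact ProjCoh.subsingleton_of_iso (AmpleLib.pullTensor ι F _ ≪≫ AmpleLib.tIso (Iso.refl _)
    (AmpleLib.pullTensor ι E _ ≪≫ AmpleLib.tIso (Iso.refl _) (AmpleLib.pullPow ι L' m))).symm i

/-- Open sets which absorb a window of earlier ones cover a compact space at some stage. -/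
theorem exists_forall_of_window {T : Type u} [TopologicalSpace T] [CompactSpace T] (U : ℕ → Set T)
    (hU : ∀ m, IsOpen (U m)) (D m₁ : ℕ)
    (hmono : ∀ m, m₁ ≤ m → ∀ s, (∀ c : Fin D, s ∈ U (m - (c + 1))) → s ∈ U m)
    (hcov : ∀ s, ∃ m₀, ∀ m, m₀ ≤ m → s ∈ U m) : ∃ m₀, ∀ m, m₀ ≤ m → ∀ s, s ∈ U m := by
  have hW : ∀ s, ∃ (W : Set T) (n : ℕ), IsOpen W ∧ s ∈ W ∧ ∀ m, n ≤ m → W ⊆ U m := fun s => by
    obtain ⟨m₀, h₀⟩ := hcov s
    refine ⟨⋂ c : Fin (D + 1), U (max m₀ m₁ + c), max m₀ m₁, isOpen_iInter_of_finite fun c => hU _,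
      Set.mem_iInter.2 fun c => h₀ _ (by omega), fun m => ?_⟩
    induction m using Nat.strong_induction_on with
    | _ m ih =>
      intro hm t ht
      rcases Nat.lt_or_ge m (max m₀ m₁ + (D + 1)) with h | h
      · have := Set.mem_iInter.1 ht ⟨m - max m₀ m₁, by omega⟩
        simp only at this
        rwa [Nat.add_sub_cancel' hm] at this
      · exact hmono m (by omega) t fun c => ih (m - (c + 1)) (by omega) (by omega) ht
  choose W n hWo hWs hWn using hW
  obtain ⟨t, ht⟩ := isCompact_univ.elim_finite_subcover W hWo fun s _ => Set.mem_iUnion.2 ⟨s, hWs s⟩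
  refine ⟨t.sup n, fun m hm s => ?_⟩
  obtain ⟨z, hz⟩ := Set.mem_iUnion.1 (ht (Set.mem_univ s))
  obtain ⟨hzt, hsz⟩ := Set.mem_iUnion.1 hz
  exact hWn z m ((Finset.le_sup hzt).trans hm) hsz

include hA η hF' hfl hdepth in
theorem fiberH_step {b : ℕ} {e : Fin b → ℕ} {K : X.Modules} {P : Fin b → X.Modules} {ι : K ⟶ ∐ P}
    {π : ∐ P ⟶ Coh.structureModule X} {w : ι ≫ π = 0} (hS : (ShortComplex.mk ι π w).ShortExact)
    (hK : FlatMod.IsFinLocFree K) (hP : ∀ j, 0 < e j ∧ Nonempty (P j ≅ CohB1.tensorPow L' (e j)))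
    (i : ℕ) (hi : i < r) (E : X.Modules) (hE : FlatMod.IsFinLocFree E)
    (hlow : ∀ q, q + 1 = i → ∃ m₀ : ℕ, ∀ m, m₀ ≤ m → ∀ s : S, Subsingleton (CohIII.fiberH f
      (CohB1.tensorMod F (CohB1.tensorMod (CohB1.tensorMod E (LocFreeHomLib.dualE K))
        (CohB1.tensorPow L' m))) s q)) :
    ∃ m₀ : ℕ, ∀ m, m₀ ≤ m → ∀ s : S,
      Subsingleton (CohIII.fiberH f (CohB1.tensorMod F (CohB1.tensorMod E (CohB1.tensorPow L' m))) s i) := by
  haveI : IsLocallyNoetherian X := LocallyOfFiniteType.isLocallyNoetherian f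
  have hL' : PicF.IsInvertible L' := AmpleLib.isInvertible_of_tensor_iso (AmpleLib.comm L' L ≪≫ η)
  have hpow : ∀ n, FlatMod.IsFinLocFree (CohB1.tensorPow L' n) := fun n =>
    CurveLib.isFinLocFree_of_isInvertible (AmpleLib.isInvertible_tensorPow hL' n)
  have hEm : ∀ m, FlatMod.IsFinLocFree (CohB1.tensorMod E (CohB1.tensorPow L' m)) := fun m =>
    DCohLib.isFinLocFree_tensor hE (hpow m)
  let G : ℕ → X.Modules := fun m => CohB1.tensorMod F (CohB1.tensorMod E (CohB1.tensorPow L' m))
  have hG : ∀ m, Coh.IsCoh (G m) := fun m =>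
    Nakai.isCoh_tensorMod (M := F) (N := CohB1.tensorMod E (CohB1.tensorPow L' m)) hF' (CurveLib.isCoh_of_isFinLocFree (hEm m))
  haveI : ∀ m, Coh.IsQCoh (G m) := fun m => (hG m).1
  have hGfl : ∀ m, FlatMod.IsFlatOver f (G m) := fun m => isFlatOver_tensor_flf f (hEm m) hfl
  obtain ⟨m₁, hm₁⟩ : ∃ m₁ : ℕ, ∀ q, q + 1 = i → ∀ m, m₁ ≤ m → ∀ s : S, Subsingleton (CohIII.fiberH f
      (CohB1.tensorMod F (CohB1.tensorMod (CohB1.tensorMod E (LocFreeHomLib.dualE K))
        (CohB1.tensorPow L' m))) s q) := by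
    rcases Nat.eq_zero_or_pos i with rfl | hpos
    · exact ⟨0, fun q hq => absurd hq (Nat.succ_ne_zero q)⟩
    · obtain ⟨m₁, h⟩ := hlow (i - 1) (by omega)
      exact ⟨m₁, fun q hq => by obtain rfl : q = i - 1 := (by omega); exact h⟩
  let D := (Finset.univ : Finset (Fin b)).sup e
  refine exists_forall_of_window (fun m => {s : S | Subsingleton (CohIII.fiberH f (G m) s i)})
    (fun m => isOpen_setOf_subsingleton_fiberH f (G m) (QCohLib.isFP_of_isCoh _ (hG m)) (hGfl m) i)
    D (max m₁ D) (fun m hm s hs => ?_) fun s => ?_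
  · have hPflf : ∀ j, FlatMod.IsFinLocFree (P j) := fun j =>
      DCohLib.isFinLocFree_iso (hP j).2.some.symm (hpow _)
    refine subsingleton_fiberH_of_epi f P hPflf hK hS (hG m) (hGfl m) s i (fun j => ?_) fun q hq => ?_
    · have hej : e j ≤ D := Finset.le_sup (Finset.mem_univ j)
      have h := hs ⟨e j - 1, by have := (hP j).1; omega⟩
      simp only [Nat.sub_add_cancel (show 1 ≤ e j from (hP j).1)] at h
      obtain ⟨η'⟩ : Nonempty (CohB1.tensorMod (P j) (CohB1.tensorPow L (e j)) ≅ Coh.structureModule X) := by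
        rw [← mk_eq_mk]
        show mk (P j) * mk (CohB1.tensorPow L (e j)) = mk (Coh.structureModule X)
        rw [mk_congr (hP j).2.some, mk_tensorPow, mk_tensorPow, ← mul_pow, mul_comm (mk L'),
          show mk L * mk L' = 1 from mk_congr η, one_pow, mk_structureModule]
      obtain ⟨θ⟩ := ProjSerreLib.nonempty_hF_invertible η' (G m)
      obtain ⟨θ'⟩ : Nonempty (CohB1.tensorMod (G m) (CohB1.tensorPow L (e j)) ≅ G (m - e j)) := by
        rw [← mk_eq_mk]
        show mk F * (mk E * mk (CohB1.tensorPow L' m)) * mk (CohB1.tensorPow L (e j)) =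
          mk F * (mk E * mk (CohB1.tensorPow L' (m - e j)))
        have hsplit : mk L' ^ m = mk L' ^ (m - e j) * mk L' ^ e j := by rw [← pow_add]; congr 1; omega
        simp only [mk_tensorPow]
        rw [hsplit, mul_assoc, mul_assoc, mul_assoc, ← mul_pow, mul_comm (mk L'),
          show mk L * mk L' = 1 from mk_congr η, one_pow, mul_one]
      haveI : Subsingleton (Coh.HH (f.fiber s) ((Scheme.Modules.pullback (f.fiberι s)).obj (G (m - e j))) i) := h
      exact ProjCoh.subsingleton_of_iso ((Scheme.Modules.pullback (f.fiberι s)).mapIso (θ ≪≫ θ')).symm i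
    · haveI := LocFreeHomLib.isIso_alpha K hK (G m)
      obtain ⟨θ⟩ : Nonempty (CohB1.tensorMod F (CohB1.tensorMod (CohB1.tensorMod E (LocFreeHomLib.dualE K))
          (CohB1.tensorPow L' m)) ≅ CohB1.tensorMod (G m) (LocFreeHomLib.dualE K)) := by
        rw [← mk_eq_mk]
        show mk F * (mk E * mk (LocFreeHomLib.dualE K) * mk (CohB1.tensorPow L' m)) =
          mk F * (mk E * mk (CohB1.tensorPow L' m)) * mk (LocFreeHomLib.dualE K)
        ac_rfl
      haveI := hm₁ q hq m (le_trans (le_max_left _ _) hm) s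
      exact ProjCoh.subsingleton_of_iso
        ((Scheme.Modules.pullback (f.fiberι s)).mapIso (θ ≪≫ asIso (LocFreeHomLib.alpha K (G m)))) q
  · obtain ⟨m₀, h⟩ := exists_forall_fibre f hA η hF' hdepth hE s
    exact ⟨m₀, fun m hm => h m hm i hi⟩

include hA η hF' hfl hdepth in
/-- Uniform vanishing on all fibres. -/
theorem eventually_fiberH : ∀ (i : ℕ), i < r → ∀ (E : X.Modules), FlatMod.IsFinLocFree E →
    ∃ m₀ : ℕ, ∀ m, m₀ ≤ m → ∀ s : S,
      Subsingleton (CohIII.fiberH f (CohB1.tensorMod F (CohB1.tensorMod E (CohB1.tensorPow L' m))) s i) := by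
  haveI : IsLocallyNoetherian X := LocallyOfFiniteType.isLocallyNoetherian f
  haveI : CompactSpace X := QuasiCompact.compactSpace_of_compactSpace f
  haveI : IsNoetherian X := { }
  obtain ⟨b, e, K, P, ι, π, w, hS, hK, hP⟩ := exists_epi_negPow_structure hA η
  intro i
  induction i with
  | zero =>
    exact fun hi E hE => fiberH_step f hA η hF' hfl hdepth hS hK hP 0 hi E hE
      (fun q hq => absurd hq (Nat.succ_ne_zero q))
  | succ i ih =>
    refine fun hi E hE => fiberH_step f hA η hF' hfl hdepth hS hK hP (i + 1) hi E hE (fun q hq => ?_)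
    obtain rfl : q = i := by omega
    exact ih (by omega) _ (DCohLib.isFinLocFree_tensor hE (DCohMore.isFinLocFree_dual K hK))

include hA η hF' hfl hdepth in
/-- Uniform vanishing of the cohomology of negative twists. -/
theorem eventually_HH {E : X.Modules} (hE : FlatMod.IsFinLocFree E) :
    ∃ m₀ : ℕ, ∀ m, m₀ ≤ m → ∀ i, i < r →
      Subsingleton (Coh.HH X (CohB1.tensorMod F (CohB1.tensorMod E (CohB1.tensorPow L' m))) i) := by
  haveI : IsLocallyNoetherian X := LocallyOfFiniteType.isLocallyNoetherian f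
  have hL' : PicF.IsInvertible L' := AmpleLib.isInvertible_of_tensor_iso (AmpleLib.comm L' L ≪≫ η)
  choose m₀ hm₀ using fun i : Fin r => eventually_fiberH f hA η hF' hfl hdepth i i.2 E hE
  refine ⟨Finset.univ.sup m₀, fun m hm i hi => ?_⟩
  have hEm : FlatMod.IsFinLocFree (CohB1.tensorMod E (CohB1.tensorPow L' m)) :=
    DCohLib.isFinLocFree_tensor hE (CurveLib.isFinLocFree_of_isInvertible (AmpleLib.isInvertible_tensorPow hL' m))
  exact subsingleton_HH_of_fibres f (Nakai.isCoh_tensorMod hF' (CurveLib.isCoh_of_isFinLocFree hEm))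
    (isFlatOver_tensor_flf f hEm hfl) i
    (fun s => hm₀ ⟨i, hi⟩ m ((Finset.le_sup (Finset.mem_univ (⟨i, hi⟩ : Fin r))).trans hm) s)

end Groth.Agent.FibVanLib
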