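import Groth.Agent.FibVanLib.Basic
import Groth.Agent.LefAmpleLib.Long
import Groth.Agent.AmpleEmb.Resolution
import Groth.Agent.ProjSerreLib.HomContra
import Groth.Agent.ProjSerreLib.GenDual
import Groth.Agent.QuotRepLib.FlatPull
import Groth.Agent.S1688
import Groth.Agent.DCohMore.RelAmp

/-!
# Multiplication by generating sections, and its injectivity on cohomology
-/

set_option autoImplicit false
set_option backward.isDefEq.respectTransparency false
set_option linter.style.haveILetI false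
set_option maxHeartbeats 400000

universe u

open CategoryTheory CategoryTheory.Limits AlgebraicGeometry TopologicalSpace
open Groth.Agent.StalkHomLib (hF)

noncomputable section

namespace Groth.Agent.FibVanLib

instance additive_HAb (X : Scheme.{u}) (p : ℕ) : (CohIII.HAb X p).Additive where
  map_add {M N f g} := AddCommGrpCat.hom_ext (AddMonoidHom.ext fun z => by
    exact (congrArg (fun h => Sheaf.H.map h p z) ((SheafOfModules.toSheaf X.ringCatSheaf).map_add (f := f) (g := g))).trans
      (Sheaf.H.map_add_apply _ _ z))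

/-- An additive functor kills an object which splits through killed ones. -/
theorem isZero_of_sum_factor {C : Type*} [Category C] [Preadditive C] (Φ : C ⥤ AddCommGrpCat.{u}) [Φ.Additive]
    {A : C} {n : ℕ} (B : Fin n → C) (i : ∀ j, A ⟶ B j) (p : ∀ j, B j ⟶ A) (h : ∑ j, i j ≫ p j = 𝟙 A)
    (hB : ∀ j, IsZero (Φ.obj (B j))) : IsZero (Φ.obj A) := by
  rw [IsZero.iff_id_eq_zero, ← Φ.map_id, ← h, Functor.map_sum]
  refine Finset.sum_eq_zero fun j _ => ?_
  rw [Φ.map_comp, (hB j).eq_of_tgt (Φ.map (i j)) 0, zero_comp]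

/-- The first term has no cohomology when its two neighbours have none. -/
theorem subsingleton_HH_X₁ {X : Scheme.{u}} {S : ShortComplex X.Modules} (hS : S.ShortExact) (p : ℕ)
    (h₂ : Subsingleton (Coh.HH X S.X₂ p)) (h₃ : ∀ q, q + 1 = p → Subsingleton (Coh.HH X S.X₃ q)) :
    Subsingleton (Coh.HH X S.X₁ p) := by
  have hT := QCohLib.toAb_shortExact hS
  refine subsingleton_of_forall_eq 0 fun z => ?_
  cases p with
  | zero =>
    haveI := hT.mono_f
    haveI := h₂
    have hz : z.comp (Abelian.Ext.mk₀ (S.map (QCohLib.toAbF X)).f) (add_zero 0) = 0 :=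
      Subsingleton.elim (α := Coh.HH X S.X₂ 0) _ _
    rw [← Abelian.Ext.mk₀_homEquiv₀_apply z] at hz ⊢
    rw [Abelian.Ext.mk₀_comp_mk₀] at hz
    have h0 := (Abelian.Ext.mk₀_eq_zero_iff _).1 hz
    rw [zero_of_comp_mono _ h0, Abelian.Ext.mk₀_zero]
  | succ q =>
    haveI := h₂
    haveI := h₃ q rfl
    obtain ⟨y, hy⟩ := Abelian.Ext.covariant_sequence_exact₁ _ hT z
      (Subsingleton.elim (α := Coh.HH X S.X₂ (q + 1)) _ _) rfl
    rw [← hy, show y = 0 from Subsingleton.elim (α := Coh.HH X S.X₃ q) y 0, Abelian.Ext.zero_comp]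

variable {X : Scheme.{u}} [IsLocallyNoetherian X]

local instance hasHFV (M : X.Modules) : ModSite.HasSheafHom (O := X.sheaf) M :=
  ModTensor.hasSheafHom (O := X.sheaf) M

theorem flf_kernel_of_epi {P O : X.Modules} (hP : FlatMod.IsFinLocFree P) (hO : FlatMod.IsFinLocFree O)
    (π : P ⟶ O) [Epi π] : FlatMod.IsFinLocFree (kernel π) := by
  have hS := CMRegLib.shortExact_ker π
  have hK : Coh.IsCoh (kernel π) :=
    (QCohLib.isCoh_kernel_cokernel π (CurveLib.isCoh_of_isFinLocFree hP) (CurveLib.isCoh_of_isFinLocFree hO)).1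
  refine S1688.isFinLocFree_of_free hK fun x => ?_
  obtain ⟨hPf, hPfin⟩ := DCohLib.free_finite_stalk_of_flf hP x
  obtain ⟨hOf, hOfin⟩ := DCohLib.free_finite_stalk_of_flf hO x
  haveI := hK.1
  haveI := PullbackMod.finite_stalk_of_isFT hK.2 x
  haveI := hPf
  haveI := hOf
  obtain ⟨l, hl⟩ := Module.projective_lifting_property (PullbackMod.stalkLin π x) LinearMap.id
    (DevLib.stalk_surjective hS x)
  obtain ⟨e, -, -⟩ :=
    (DevLib.stalk_exact hS x).splitSurjectiveEquiv (DevLib.stalk_injective hS x) ⟨l, hl⟩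
  haveI : Module.Projective (X.presheaf.stalk x) ((kernel π).presheaf.stalk x) :=
    Module.Projective.of_split (e.symm.toLinearMap.comp (LinearMap.inl _ _ _))
      ((LinearMap.fst _ _ _).comp e.toLinearMap) (LinearMap.ext fun a => by simp)
  exact Module.free_of_flat_of_isLocalRing

/-- Generating sections of positive powers of an ample module, as a surjection onto the structure sheaf. -/
theorem exists_epi_negPow_structure [CompactSpace X] [QuasiSeparatedSpace X] {L L' : X.Modules}
    (hA : CohB1.IsAmple L) (η : CohB1.tensorMod L L' ≅ Coh.structureModule X) :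
    ∃ (b : ℕ) (e : Fin b → ℕ) (K : X.Modules) (P : Fin b → X.Modules) (ι : K ⟶ ∐ P) (π : ∐ P ⟶ Coh.structureModule X)
      (w : ι ≫ π = 0), (ShortComplex.mk ι π w).ShortExact ∧ FlatMod.IsFinLocFree K ∧
      ∀ j, 0 < e j ∧ Nonempty (P j ≅ CohB1.tensorPow L' (e j)) := by
  haveI : Coh.IsQCoh (Coh.structureModule X) := (CurveLib.isCoh_of_isFinLocFree (BCLib.isFinLocFree_structureModule X)).1
  obtain ⟨b, P, π, hπ, hP⟩ := AmpleEmb.exists_epi_sigma_negPow (fun n : ℕ => CohB1.tensorPow L (n + 1))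
    (fun n => AmpleLib.isInvertible_tensorPow hA.1 _) (fun x => hA.2.2 x) (Coh.structureModule X)
    (DCohLib.isFT_of_flf (BCLib.isFinLocFree_structureModule X))
  choose hPi n k hk hPk using hP
  have hflf : FlatMod.IsFinLocFree (∐ P) :=
    DCohLib.isFinLocFree_sigma b _ fun j => CurveLib.isFinLocFree_of_isInvertible (hPi j)
  refine ⟨b, fun j => (n j + 1) * k j, _, P, kernel.ι π, π, kernel.condition π, CMRegLib.shortExact_ker π,
    flf_kernel_of_epi hflf (BCLib.isFinLocFree_structureModule X) π, fun j => ⟨Nat.mul_pos (Nat.succ_pos _) (hk j), ?_⟩⟩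
  obtain ⟨θ⟩ := hPk j
  rw [← IntLib.mk_eq_mk, IntLib.mk_tensorPow]
  have h1 : IntLib.mk (P j) * IntLib.mk L ^ ((n j + 1) * k j) = 1 := by
    rw [pow_mul, ← IntLib.mk_tensorPow L (n j + 1), ← IntLib.mk_tensorPow (CohB1.tensorPow L (n j + 1)) (k j)]
    exact IntLib.mk_congr θ
  have h2 : IntLib.mk L * IntLib.mk L' = 1 := IntLib.mk_congr η
  calc IntLib.mk (P j) = IntLib.mk (P j) * (IntLib.mk L * IntLib.mk L') ^ ((n j + 1) * k j) := by
        rw [h2, one_pow, mul_one]
    _ = IntLib.mk L' ^ ((n j + 1) * k j) := by rw [mul_pow, ← mul_assoc, h1, one_mul]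

variable {S : Scheme.{u}} (f : X ⟶ S)

/-- Vanishing on a fibre passes through multiplication by generating sections. -/
theorem subsingleton_fiberH_of_epi {b : ℕ} (P : Fin b → X.Modules) (hP : ∀ j, FlatMod.IsFinLocFree (P j))
    {K : X.Modules} (hK : FlatMod.IsFinLocFree K) {ι : K ⟶ ∐ P} {π : ∐ P ⟶ Coh.structureModule X}
    {w : ι ≫ π = 0} (hS : (ShortComplex.mk ι π w).ShortExact) {G : X.Modules} (hG : Coh.IsCoh G)
    (hGfl : FlatMod.IsFlatOver f G) (s : S) (p : ℕ)
    (h₂ : ∀ j, Subsingleton (CohIII.fiberH f ((hF (P j)).obj G) s p))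
    (h₃ : ∀ q, q + 1 = p → Subsingleton (CohIII.fiberH f ((hF K).obj G) s q)) :
    Subsingleton (CohIII.fiberH f G s p) := by
  classical
  have hE : FlatMod.IsFinLocFree (∐ P) := DCohLib.isFinLocFree_sigma b _ hP
  have hO := BCLib.isFinLocFree_structureModule X
  let T := ProjSerreLib.homSeq G (ShortComplex.mk ι π w) hK
  have hT : T.ShortExact := ProjSerreLib.shortExact_homSeq G hS hK hE hO
  have hc : ∀ {E : X.Modules}, FlatMod.IsFinLocFree E → Coh.IsCoh ((hF E).obj G) := fun {E} h =>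
    StalkHomLib.isCoh_hF (F := E) (N := G) (CurveLib.isCoh_of_isFinLocFree h) hG
  haveI : Coh.IsQCoh T.X₁ := (hc hO).1
  haveI : Coh.IsQCoh T.X₂ := (hc hE).1
  haveI : Coh.IsQCoh T.X₃ := (hc hK).1
  have hfl : FlatMod.IsFlatOver f T.X₃ :=
    haveI := LocFreeHomLib.isIso_alpha K hK G
    DCohMore.isFlatOver_of_iso f (asIso (LocFreeHomLib.alpha K G))
      (isFlatOver_tensor_flf f (DCohMore.isFinLocFree_dual K hK) hGfl)
  have hTs := QuotRep.shortExact_pullback_of_flat
    (IsPullback.of_hasPullback f (S.fromSpecResidueField s)) hT hfl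
  have h1 := subsingleton_HH_X₁ hTs p ?_ h₃
  · obtain ⟨e⟩ := ProjSerreLib.nonempty_hF_invertible (CurveLib.tmodUnit (Coh.structureModule X)) G
    haveI : Subsingleton (Coh.HH (f.fiber s)
      ((Scheme.Modules.pullback (f.fiberι s)).obj ((hF (Coh.structureModule X)).obj G)) p) := h1
    exact ProjCoh.subsingleton_of_iso
      ((Scheme.Modules.pullback (f.fiberι s)).mapIso (e ≪≫ DCohLib.tensorStructureIso G)) p
  · haveI : (Scheme.Modules.pullback (f.fiberι s)).Additive := inferInstance
    let Φ := Scheme.Modules.pullback (f.fiberι s) ⋙ CohIII.HAb (f.fiber s) p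
    let q : ∀ j, ((∐ P) ⟶ P j) := fun j =>
      Sigma.desc fun i => if e : i = j then eqToHom (congrArg P e) else 0
    have htot : ∑ j, q j ≫ Sigma.ι P j = 𝟙 _ := by
      refine Sigma.hom_ext _ _ fun i => ?_
      simp [q, Preadditive.comp_sum, dite_comp, Finset.sum_dite_eq]
    refine AddCommGrpCat.subsingleton_of_isZero (G := Φ.obj ((hF (∐ P)).obj G)) ?_
    refine isZero_of_sum_factor Φ (fun j => (hF (P j)).obj G) (fun j => ProjSerreLib.preMap (Sigma.ι P j) G)
      (fun j => ProjSerreLib.preMap (q j) G) ?_ fun j => ?_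
    · simp only [← ProjSerreLib.preMap_comp G _ _ hE]
      rw [← ProjSerreLib.preMap_sum G _ _ hE, htot, ProjSerreLib.preMap_id G hE]
    · haveI : Subsingleton (Φ.obj ((hF (P j)).obj G)) := h₂ j
      exact AddCommGrpCat.isZero_of_subsingleton _

end Groth.Agent.FibVanLib
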